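import Groth.Agent.WiebeLib.Koszul

/-!
# Koszul regularity from exactness of the elementary Koszul complex
-/

universe u

open CategoryTheory CategoryTheory.Limits

namespace Groth.Agent.KoszulFlatLib

open WiebeLib

variable {R : Type u} [CommRing R]

theorem isKoszulRegularSeq_of_isExact {n : ℕ} {f : Fin n → R} (hf : IsExact f) :
    LCI.IsKoszulRegularSeq R (List.ofFn f) := by
  obtain ⟨L⟩ := nonempty_comparison f
  intro i hi
  rcases lt_or_gt_of_ne hi with hlt | hgt
  · obtain ⟨k, rfl⟩ : ∃ k : ℕ, i = -((k + 1 : ℕ) : ℤ) := ⟨((-i) - 1).toNat, by omega⟩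
    rw [← HomologicalComplex.exactAt_iff_isZero_homology,
      HomologicalComplex.exactAt_iff' (Koszul.koszul R (List.ofFn f)) (-((k + 1 + 1 : ℕ) : ℤ)) (-((k + 1 : ℕ) : ℤ))
        (-(k : ℤ)) (by simp; omega) (by simp), ShortComplex.moduleCat_exact_iff]
    intro z hz
    have h0 : d n f k (L.e _ (k + 1) rfl z) = 0 := by
      rw [← L.comm _ _ k rfl rfl]
      exact (congrArg (L.e _ k rfl) hz).trans (map_zero _)
    obtain ⟨y, hy⟩ := hf k _ h0
    refine ⟨(L.e _ (k + 1 + 1) rfl).symm y, (L.e _ (k + 1) rfl).injective ?_⟩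
    refine Eq.trans ?_ hy
    exact (L.comm _ _ (k + 1) rfl rfl _).trans (congrArg _ (LinearEquiv.apply_symm_apply _ y))
  · rw [← HomologicalComplex.exactAt_iff_isZero_homology]
    exact HomologicalComplex.ExactAt.of_isZero (L.isZero_pos i hgt)

end Groth.Agent.KoszulFlatLib
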