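import Groth.Agent.CAlgUI.Flat
import Groth.Agent.LocalCrit.Flatness
import Mathlib.RingTheory.Flat.Stability
import Mathlib.LinearAlgebra.TensorProduct.RightExactness
import Mathlib.LinearAlgebra.TensorProduct.Quotient

/-!
# Exactness and flatness of the cokernel of a complex of flat modules, from the reduction modulo a square zero ideal

If `C` is a complex of flat `A`-modules in non-negative degrees whose reduction modulo a square zero ideal `J` is
exact in positive degrees with flat cokernel over `A ⧸ J`, then `C` is exact in positive degrees and its cokernel is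
flat over `A`.
-/

universe u

open TensorProduct

namespace Groth.Agent.KoszulFlatLib

variable {A : Type u} [CommRing A]

/-- The multiplication `J ⊗ X → X`. -/
noncomputable def mu (J : Ideal A) (X : Type u) [AddCommGroup X] [Module A X] : J ⊗[A] X →ₗ[A] X :=
  (TensorProduct.lid A X).toLinearMap ∘ₗ J.subtype.rTensor X

theorem mu_tmul (J : Ideal A) (X : Type u) [AddCommGroup X] [Module A X] (j : J) (x : X) :
    mu J X (j ⊗ₜ x) = (j : A) • x := rfl

theorem mu_injective (J : Ideal A) (X : Type u) [AddCommGroup X] [Module A X] [Module.Flat A X] :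
    Function.Injective (mu J X) :=
  (TensorProduct.lid A X).injective.comp (Module.Flat.rTensor_preserves_injective_linearMap _ J.injective_subtype)

theorem exists_mu_eq {J : Ideal A} {X : Type u} [AddCommGroup X] [Module A X] {x : X}
    (hx : x ∈ J • (⊤ : Submodule A X)) : ∃ t, mu J X t = x := by
  refine Submodule.smul_induction_on hx (fun j hj x _ => ⟨⟨j, hj⟩ ⊗ₜ x, rfl⟩) ?_
  rintro _ _ ⟨a, rfl⟩ ⟨b, rfl⟩
  exact ⟨a + b, map_add _ _ _⟩

theorem mu_natural (J : Ideal A) {X Y : Type u} [AddCommGroup X] [Module A X] [AddCommGroup Y] [Module A Y]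
    (g : X →ₗ[A] Y) (t : J ⊗[A] X) : mu J Y (g.lTensor J t) = g (mu J X t) := by
  induction t using TensorProduct.induction_on with
  | zero => simp
  | tmul j x => simp [mu_tmul]
  | add a b ha hb => simp only [map_add, ha, hb]

theorem smul_mu_mem (J : Ideal A) (X : Type u) [AddCommGroup X] [Module A X] (t : J ⊗[A] X) :
    mu J X t ∈ J • (⊤ : Submodule A X) := by
  induction t using TensorProduct.induction_on with
  | zero => exact zero_mem _
  | tmul j x => exact Submodule.smul_mem_smul j.2 Submodule.mem_top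
  | add a b ha hb => rw [map_add]; exact add_mem ha hb

section Flat

variable {R : Type u} [CommRing R] (D : ℕ → Type u) [∀ k, AddCommGroup (D k)] [∀ k, Module R (D k)]
  [∀ k, Module.Flat R (D k)] (δ : ∀ k, D (k + 1) →ₗ[R] D k)

/-- An exact complex of flat modules with flat cokernel stays exact after tensoring. -/
theorem rTensor_exact_of_flat (hex : ∀ k, Function.Exact (δ (k + 1)) (δ k))
    [Module.Flat R (D 0 ⧸ LinearMap.range (δ 0))] (N : Type u) [AddCommGroup N] [Module R N] (k : ℕ) :
    Function.Exact ((δ (k + 1)).rTensor N) ((δ k).rTensor N) := by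
  have him : ∀ k, Module.Flat R (LinearMap.range (δ k)) ∧
      CAlgX.UniversallyInjective R (LinearMap.range (δ k)).subtype := by
    intro k
    induction k with
    | zero =>
      have hui : CAlgX.UniversallyInjective R (LinearMap.range (δ 0)).subtype :=
        CAlgUI.ui_of_flat_quotient (g := (LinearMap.range (δ 0)).mkQ) (Submodule.injective_subtype _)
          (LinearMap.exact_subtype_mkQ _) (Submodule.mkQ_surjective _)
      exact ⟨CAlgUI.flat_left_of_ui hui, hui⟩
    | succ k ih =>
      haveI := ih.1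
      have hui : CAlgX.UniversallyInjective R (LinearMap.range (δ (k + 1))).subtype := by
        refine CAlgUI.ui_of_flat_quotient (g := (δ k).rangeRestrict) (Submodule.injective_subtype _)
          (fun x => ?_) (LinearMap.surjective_rangeRestrict _)
        constructor
        · intro hx
          obtain ⟨y, rfl⟩ := (hex k x).mp (congrArg Subtype.val hx)
          exact ⟨⟨_, y, rfl⟩, rfl⟩
        · rintro ⟨⟨_, y, rfl⟩, rfl⟩
          exact Subtype.ext ((hex k).apply_apply_eq_zero y)
      exact ⟨CAlgUI.flat_left_of_ui hui, hui⟩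
  intro t
  constructor
  · intro ht
    have hr : Function.Exact (δ (k + 1)) (δ k).rangeRestrict := fun x =>
      ⟨fun hx => (hex k x).mp (congrArg Subtype.val hx), fun hx => Subtype.ext ((hex k x).mpr hx)⟩
    refine ((rTensor_exact N hr (LinearMap.surjective_rangeRestrict _)) t).mp ?_
    refine (him k).2 N ?_
    rw [map_zero, ← LinearMap.comp_apply, ← LinearMap.rTensor_comp, show (LinearMap.range (δ k)).subtype ∘ₗ (δ k).rangeRestrict = δ k from rfl]
    exact ht
  · rintro ⟨s, rfl⟩
    rw [← LinearMap.comp_apply, ← LinearMap.rTensor_comp, (hex k).linearMap_comp_eq_zero,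
      LinearMap.rTensor_zero, LinearMap.zero_apply]

end Flat

theorem exact_and_flat_of_mod_sq_zero (J : Ideal A) (hJ : J * J = ⊥) (C : ℕ → Type u) [∀ k, AddCommGroup (C k)]
    [∀ k, Module A (C k)] [∀ k, Module.Flat A (C k)] (d : ∀ k, C (k + 1) →ₗ[A] C k)
    (hdd : ∀ k x, d k (d (k + 1) x) = 0)
    (hmod : ∀ k x, d k x ∈ J • (⊤ : Submodule A (C k)) → ∃ y, x - d (k + 1) y ∈ J • (⊤ : Submodule A (C (k + 1))))
    [Module.Flat (A ⧸ J) ((A ⧸ J) ⊗[A] (C 0 ⧸ LinearMap.range (d 0)))] :
    (∀ k x, d k x = 0 → ∃ y, d (k + 1) y = x) ∧ Module.Flat A (C 0 ⧸ LinearMap.range (d 0)) := by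
  let R := A ⧸ J
  -- reduction modulo `J`
  have hz : ∀ {X : Type u} [AddCommGroup X] [Module A X] (x : X),
      (1 : R) ⊗ₜ[A] x = 0 ↔ x ∈ J • (⊤ : Submodule A X) := by
    intro X _ _ x
    rw [← (TensorProduct.quotTensorEquivQuotSMul X J).map_eq_zero_iff, show (1 : R) = Ideal.Quotient.mk J (1 : A) from rfl,
      TensorProduct.quotTensorEquivQuotSMul_mk_tmul, one_smul, Submodule.Quotient.mk_eq_zero]
  let D := fun k => R ⊗[A] C k
  let δ : ∀ k, D (k + 1) →ₗ[R] D k := fun k => (d k).baseChange R
  have hex : ∀ k, Function.Exact (δ (k + 1)) (δ k) := by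
    intro k t
    constructor
    · intro ht
      obtain ⟨x, rfl⟩ := TensorProduct.mk_surjective A (C (k + 1)) R Ideal.Quotient.mk_surjective t
      obtain ⟨y, hy⟩ := hmod k x ((hz _).mp ht)
      refine ⟨(1 : R) ⊗ₜ[A] y, ?_⟩
      show (1 : R) ⊗ₜ[A] d (k + 1) y = (1 : R) ⊗ₜ[A] x
      rw [eq_comm, ← sub_eq_zero, ← TensorProduct.tmul_sub, hz]
      exact hy
    · rintro ⟨s, rfl⟩
      obtain ⟨y, rfl⟩ := TensorProduct.mk_surjective A (C (k + 1 + 1)) R Ideal.Quotient.mk_surjective s
      show (1 : R) ⊗ₜ[A] d k (d (k + 1) y) = 0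
      rw [hdd, TensorProduct.tmul_zero]
  haveI : Module.Flat R (D 0 ⧸ LinearMap.range (δ 0)) := by
    let π := (LinearMap.range (d 0)).mkQ.baseChange R
    have hπ : Function.Surjective π := by
      intro t
      obtain ⟨x, rfl⟩ := TensorProduct.mk_surjective A _ R Ideal.Quotient.mk_surjective t
      obtain ⟨x, rfl⟩ := Submodule.mkQ_surjective _ x
      exact ⟨(1 : R) ⊗ₜ x, rfl⟩
    have he : Function.Exact (δ 0) π := lTensor_exact R (LinearMap.exact_map_mkQ_range (d 0)) (Submodule.mkQ_surjective _)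
    exact Module.Flat.of_linearEquiv ((Submodule.quotEquivOfEq _ _ he.linearMap_ker_eq.symm).trans
      (π.quotKerEquivOfSurjective hπ))
  -- `J` as a module over `A ⧸ J`
  have htor : Module.IsTorsionBySet A J J := fun j a => Subtype.ext (by
    show (a : A) * (j : A) = 0
    simpa [hJ] using Ideal.mul_mem_mul a.2 j.2)
  letI : Module R J := htor.module
  haveI : IsScalarTower A R J := htor.isScalarTower
  have hexJ : ∀ k (t : J ⊗[A] C (k + 1)), (d k).lTensor J t = 0 → ∃ s, (d (k + 1)).lTensor J s = t := by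
    let e : ∀ (X : Type u) [AddCommGroup X] [Module A X], (R ⊗[A] X) ⊗[R] J ≃+ J ⊗[A] X := fun X _ _ =>
      (TensorProduct.comm R (R ⊗[A] X) J).toAddEquiv.trans
        (AlgebraTensorModule.cancelBaseChange A R R J X).toAddEquiv
    have hnat : ∀ k (w : D (k + 1) ⊗[R] J), (d k).lTensor J (e _ w) = e _ ((δ k).rTensor J w) := by
      intro k w
      induction w using TensorProduct.induction_on with
      | zero => simp
      | add a b ha hb => simp only [map_add, ha, hb]
      | tmul u j =>
        obtain ⟨x, rfl⟩ := TensorProduct.mk_surjective A _ R Ideal.Quotient.mk_surjective u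
        simp [e, δ]
        rw [show LinearMap.baseChange R (d k) ((1 : R) ⊗ₜ[A] x) = (1 : R) ⊗ₜ[A] d k x from rfl,
          AlgebraTensorModule.cancelBaseChange_tmul, one_smul]
    intro k t ht
    obtain ⟨w, rfl⟩ := (e _).surjective t
    rw [hnat] at ht
    obtain ⟨s, hs⟩ := ((rTensor_exact_of_flat D δ hex J k) w).mp ((e _).map_eq_zero_iff.mp ht)
    exact ⟨e _ s, by rw [hnat, hs]⟩
  have hexact : ∀ k x, d k x = 0 → ∃ y, d (k + 1) y = x := by
    intro k x hx
    obtain ⟨y, hy⟩ := hmod k x (by rw [hx]; exact zero_mem _)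
    obtain ⟨t, ht⟩ := exists_mu_eq hy
    obtain ⟨s, hs⟩ := hexJ k t (mu_injective J _ (by
      rw [mu_natural, ht, map_sub, hx, hdd, sub_zero, map_zero]))
    refine ⟨y + mu J _ s, ?_⟩
    rw [map_add, ← mu_natural, hs, ht, add_sub_cancel]
  refine ⟨hexact, LocalCrit.flat_of_isNilpotent J _ ⟨2, by rw [pow_two, hJ]; rfl⟩ ?_
    (LocalCrit.keepsInjective_of_flat J _)⟩
  rw [injective_iff_map_eq_zero]
  intro z hzz
  obtain ⟨w, rfl⟩ := LinearMap.lTensor_surjective J (Submodule.mkQ_surjective (LinearMap.range (d 0))) z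
  have h0 : (LinearMap.range (d 0)).mkQ (mu J (C 0) w) = 0 := by
    rw [← mu_natural]
    show (TensorProduct.lid A _) _ = 0
    rw [hzz, map_zero]
  obtain ⟨y, hy⟩ := (Submodule.Quotient.mk_eq_zero _).mp h0
  obtain ⟨v, hv⟩ := hmod 0 y (hy ▸ smul_mu_mem J _ w)
  obtain ⟨t, ht⟩ := exists_mu_eq hv
  have hw : (d 0).lTensor J t = w := mu_injective J _ (by
    rw [mu_natural, ht, map_sub, hdd, sub_zero, hy])
  rw [← hw, ← LinearMap.comp_apply, ← LinearMap.lTensor_comp, LinearMap.range_mkQ_comp, LinearMap.lTensor_zero,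
    LinearMap.zero_apply]

end Groth.Agent.KoszulFlatLib
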